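import Groth.Agent.CurveLib.SmulPow
import Groth.Agent.S1536
import Groth.Agent.AVLib.GeomInt

/-!
Global functions are constants when `h⁰(O) = 1`.
-/

set_option autoImplicit false
universe u
open CategoryTheory CategoryTheory.Limits AlgebraicGeometry TopologicalSpace Opposite
open Groth.Agent.CohBase

noncomputable section

namespace Groth.Agent.CurveP1Lib

variable {k : Type u} [Field k] {X : Scheme.{u}} [X.Over (Spec (CommRingCat.of k))]

/-- `h⁰(O) = 1` means that the global functions are the constants. -/
theorem bijective_toGlobal_of_h0 (h0 : Module.finrank k (Coh.HH X (Coh.structureModule X) 0) = 1) :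
    Function.Bijective (Coh.toGlobal (X ↘ Spec (CommRingCat.of k))) := by
  letI : Algebra k Γ(X, ⊤) := (Coh.toGlobal (X ↘ Spec (CommRingCat.of k))).toAlgebra
  let e : Coh.HH X (Coh.structureModule X) 0 ≃ₗ[k] Γ(X, ⊤) :=
    { (CurveLib.secOf (Coh.structureModule X)) with map_smul' := fun r c => CurveLib.secOf_smul (k := k) _ r c }
  rw [e.finrank_eq] at h0
  haveI : Nontrivial Γ(X, ⊤) := Module.nontrivial_of_finrank_eq_succ h0
  refine ⟨show Function.Injective (algebraMap k Γ(X, ⊤)) from RingHom.injective _, fun a => ?_⟩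
  obtain ⟨c, hc⟩ := (finrank_eq_one_iff_of_nonzero' (1 : Γ(X, ⊤)) one_ne_zero).1 h0 a
  refine ⟨c, ?_⟩
  rw [← hc, Algebra.smul_def, mul_one]
  rfl

/-- Smooth proper geometrically connected schemes have only constant global functions. -/
theorem bijective_toGlobal_of_smooth [IsProper (X ↘ Spec (CommRingCat.of k))] [Smooth (X ↘ Spec (CommRingCat.of k))]
    [GeometricallyConnected (X ↘ Spec (CommRingCat.of k))] :
    Function.Bijective (Coh.toGlobal (X ↘ Spec (CommRingCat.of k))) :=
  haveI := AVLib.geometricallyReduced_of_smooth (X ↘ Spec (CommRingCat.of k))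
  bijective_toGlobal_of_h0 (S1536.result k X)

end Groth.Agent.CurveP1Lib
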