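import Groth.Agent.CurveP1Lib.DegOne
import Groth.Agent.IntLib.Push
import Groth.Agent.ShBCLib.Finrank
import Groth.Agent.ProjTwist.Top
import Groth.Agent.S4466
import Groth.Agent.PicProjLib.Pic
import Groth.Agent.CompleteCurve.ProjSpace

/-!
Transport of Euler characteristics along isomorphisms; the degree of `O(1)` on the projective line.
-/

set_option autoImplicit false
set_option backward.isDefEq.respectTransparency false
set_option linter.style.haveILetI false
universe u
open CategoryTheory CategoryTheory.Limits AlgebraicGeometry TopologicalSpace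
open Groth.Agent.PullbackMod Groth.Agent.DCohLib

noncomputable section

namespace Groth.Agent.CurveP1Lib

variable {k : Type u} [Field k] {X Z : Scheme.{u}} [X.Over (Spec (CommRingCat.of k))]
  [Z.Over (Spec (CommRingCat.of k))] (g : Z ⟶ X) [IsIso g]

omit [X.Over (Spec (CommRingCat.of k))] [Z.Over (Spec (CommRingCat.of k))] in
/-- Along an isomorphism every module is the direct image of its inverse image. -/
theorem nonempty_push_pull (M : X.Modules) :
    Nonempty (M ≅ (Scheme.Modules.pushforward g).obj ((Scheme.Modules.pullback g).obj M)) := by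
  have h : SuppOn g M :=
    ⟨fun y hy => absurd (g.homeomorph.surjective y) hy, fun x a ha z => by
      rw [show a = 0 from (ConcreteCategory.bijective_of_isIso (g.stalkMap x)).1 (ha.trans (map_zero _).symm),
        zero_smul]⟩
  haveI := isIso_unit_of_suppOn g h
  exact ⟨asIso ((Scheme.Modules.pullbackPushforwardAdjunction g).unit.app M)⟩

theorem finrank_HH_pullback (hg : g ≫ (X ↘ Spec (CommRingCat.of k)) = Z ↘ Spec (CommRingCat.of k))
    (M : X.Modules) [Coh.IsQCoh M] (i : ℕ) :
    Module.finrank k (Coh.HH Z ((Scheme.Modules.pullback g).obj M) i) = Module.finrank k (Coh.HH X M i) := by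
  haveI : Coh.IsQCoh ((Scheme.Modules.pullback g).obj M) := PullbackMod.isQCoh_pullback _ M
  obtain ⟨e⟩ := nonempty_push_pull g M
  rw [← IntLib.finrank_push k g hg, ← ShBCLib.finrank_HH_iso e]

theorem euler_pullback (hg : g ≫ (X ↘ Spec (CommRingCat.of k)) = Z ↘ Spec (CommRingCat.of k))
    (M : X.Modules) [Coh.IsQCoh M] :
    Curv2.euler k Z ((Scheme.Modules.pullback g).obj M) = Curv2.euler k X M :=
  finsum_congr fun i => by rw [finrank_HH_pullback g hg M i]

variable (k)

/-- On `P¹`: `h⁰(O(m)) = m + 1` and `χ(O(m)) = m + 1`. -/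
theorem twist_P1 (m : ℕ) :
    Module.finrank k (Coh.HH (CohB1.ProjSpace 1 k) (Twist.twistProjSpace 1 k m) 0) = m + 1 ∧
      Curv2.euler k (CohB1.ProjSpace 1 k) (Twist.twistProjSpace 1 k m) = m + 1 := by
  haveI : IsProper (CohB1.ProjSpace 1 k ↘ Spec (CommRingCat.of k)) :=
    inferInstanceAs (IsProper (CohB1.ProjSpace.toSpec 1 k))
  obtain ⟨e⟩ := ProjTwist.nonempty_H0 1 k m
  have h0 : Module.finrank k (Coh.HH (CohB1.ProjSpace 1 k) (Twist.twistProjSpace 1 k m) 0) = m + 1 := by
    rw [e.finrank_eq, S4466.finrank_forms k 1 m, Nat.choose_one_right]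
  refine ⟨h0, ?_⟩
  have hp : ∀ p, 1 ≤ p → Subsingleton (Coh.HH (CohB1.ProjSpace 1 k) (Twist.twistProjSpace 1 k m) p) := fun p hp =>
    ProjTwist.subsingleton_HH 1 k m p (by omega) (by omega)
  rw [CurveLib.euler_eq_sum (K := k) _ 1 hp, Finset.sum_range_one, h0]
  simp

end Groth.Agent.CurveP1Lib
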