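import Groth.Agent.CurveP1Lib.DiscrMap
import Groth.Agent.SplitP1Lib.Main
import Groth.Agent.FinLocFreeLib.Basic
import Groth.Agent.CurveLib.TensorDeg
import Mathlib.AlgebraicGeometry.Morphisms.Etale

/-!
The projective line is simply connected: discriminants of finite étale covers.
-/

set_option autoImplicit false
set_option backward.isDefEq.respectTransparency false
set_option linter.style.haveILetI false
universe u
open CategoryTheory CategoryTheory.Limits AlgebraicGeometry TopologicalSpace Opposite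
open Groth.Agent.AmpleEmb Groth.Agent.PicProjLib Groth.Agent.HorrocksLib Groth.Agent.PullbackMod
open Groth.Agent.SplitP1Lib
open scoped LaurentPolynomial

noncomputable section

namespace Groth.Agent.CurveP1Lib

/-- A finite locally free module on a connected space has a rank. -/
theorem exists_rank {X : Scheme.{u}} [PreconnectedSpace X] [Nonempty X] {E : X.Modules}
    (hE : FlatMod.IsFinLocFree E) : ∃ r : ℕ, FlatMod.IsFinLocFreeOfRank r E := by
  haveI := (isQCoh_and_isFP_of_isFinLocFree E hE).1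
  let ρ : X → ℕ := fun x => Module.finrank (X.presheaf.stalk x) (E.presheaf.stalk x)
  have hρ : ∀ (U : X.Opens) (n : ℕ), Nonempty (E.restrict U.ι ≅ FlatMod.freeMod (↑U) n) → ∀ y ∈ U, ρ y = n := by
    rintro U n ⟨e⟩ y hy
    obtain ⟨l⟩ := freeAt_of_restrict_iso E e hy
    rw [show ρ y = Module.finrank (X.presheaf.stalk y) (E.presheaf.stalk y) from rfl, l.finrank_eq,
      Module.finrank_fin_fun]
  have hlc : IsLocallyConstant ρ := (IsLocallyConstant.iff_exists_open ρ).2 fun x => by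
    obtain ⟨U, n, hx, he⟩ := hE x
    exact ⟨U, U.2, hx, fun y hy => (hρ U n he y hy).trans (hρ U n he x hx).symm⟩
  obtain ⟨x₀⟩ := ‹Nonempty X›
  refine ⟨ρ x₀, fun x => ?_⟩
  obtain ⟨U, n, hx, he⟩ := hE x
  rw [hlc.apply_eq_of_preconnectedSpace x₀ x, hρ U n he x hx]
  exact ⟨U, hx, he⟩

open DegDevLib (IsFrame)

variable {k : Type u} [Field k]

local notation "P" => CohB1.ProjSpace 1 k
local notation "U₀" => stdOpen 1 k (0 : Fin 2)
local notation "U₁" => stdOpen 1 k (1 : Fin 2)
local notation "W" => stdOpen 1 k (0 : Fin 2) ⊓ stdOpen 1 k (1 : Fin 2)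

variable {X : Scheme.{u}} (f : X ⟶ CohB1.ProjSpace 1 k)

/-- The direct image of the structure sheaf. -/
abbrev Ef : (P).Modules := (Scheme.Modules.pushforward f).obj (Coh.structureModule X)

/-- Sections of the direct image as an algebra. -/
@[reducible] def algU (U : (P).Opens) : Algebra Γ(P, U) Γ(X, f ⁻¹ᵁ U) := (f.app U).hom.toAlgebra

/-- Sections of the direct image as functions. -/
abbrev toFns {U : (P).Opens} {r : ℕ} (e : Fin r → Γ(Ef f, U)) : Fin r → Γ(X, f ⁻¹ᵁ U) := e

theorem bijective_toFns {U : (P).Opens} {r : ℕ} {e : Fin r → Γ(Ef f, U)} (he : IsFrame U e) :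
    letI := algU f U
    Function.Bijective (Fintype.linearCombination Γ(P, U) (toFns f e)) :=
  he.bijective

/-- A frame as a basis of the algebra of functions. -/
def frameBasis {U : (P).Opens} {r : ℕ} {e : Fin r → Γ(Ef f, U)} (he : IsFrame U e) :
    letI := algU f U
    Module.Basis (ULift.{u} (Fin r)) Γ(P, U) Γ(X, f ⁻¹ᵁ U) :=
  letI := algU f U
  (Module.Basis.ofEquivFun (LinearEquiv.ofBijective
    (Fintype.linearCombination Γ(P, U) (toFns f e)) (bijective_toFns f he)).symm).reindex Equiv.ulift.symm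

theorem frameBasis_apply {U : (P).Opens} {r : ℕ} {e : Fin r → Γ(Ef f, U)} (he : IsFrame U e) (i : ULift.{u} (Fin r)) :
    (letI := algU f U; frameBasis f he i) = toFns f e i.down := by
  classical
  letI := algU f U
  rw [frameBasis, Module.Basis.reindex_apply, Module.Basis.coe_ofEquivFun]
  simp [Fintype.linearCombination_apply, Pi.single_apply]

theorem etale_app [IsFinite f] [Etale f] {U : (P).Opens} (hU : IsAffineOpen U) :
    letI := algU f U
    Algebra.Etale Γ(P, U) Γ(X, f ⁻¹ᵁ U) := by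
  letI := algU f U
  have h : (f.app U).hom.Etale := by
    rw [Scheme.Hom.app_eq_appLE]
    exact HasRingHomProperty.appLE @Etale f inferInstance ⟨U, hU⟩ ⟨f ⁻¹ᵁ U, hU.preimage f⟩ le_rfl
  exact RingHom.etale_algebraMap.1 h

theorem isAffineOpen_std (i : Fin 2) : IsAffineOpen (stdOpen 1 k i) := AmpleEmb.isAffineOpen_stdOpen 1 k i

/-- Units on a chart are constants. -/
theorem eq_C_of_isUnit (i : Fin 2) {a : Γ(P, stdOpen 1 k i)} (ha : IsUnit a) :
    ∃ c : k, c ≠ 0 ∧ a = secP i (Polynomial.C c) := by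
  let e : Polynomial k ≃+* Γ(P, stdOpen 1 k i) := RingEquiv.ofBijective (secP i) ⟨fun p q h => by
    have h' := congrArg ((P).presheaf.germ (stdOpen 1 k i) (gen 1 k) (gen_mem 1 k)) h
    rw [germ_secP, germ_secP] at h'
    exact φp_injective i h', secP_surjective i⟩
  obtain ⟨c, hc, hcp⟩ := Polynomial.isUnit_iff.1 (ha.map e.symm)
  refine ⟨c, hc.ne_zero, ?_⟩
  show a = e _
  rw [hcp, RingEquiv.apply_symm_apply]

/-- Functions on the overlap are determined at the generic point. -/
theorem germW_injective : Function.Injective ((P).presheaf.germ W (gen 1 k) gen_mem_W) := by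
  haveI : Nonempty (W : (P).Opens) := ⟨⟨gen 1 k, gen_mem_W⟩⟩
  exact (P).germToFunctionField_injective W

theorem γgW_injective {r : ℕ} {E : (P).Modules} {e : Fin r → Γ(E, W)} (he : IsFrame W e) :
    Function.Injective (fun v : Γ(E, W) => γg gen_mem_W v) := by
  intro v v' h
  obtain ⟨c, rfl⟩ := he.bijective.2 v
  obtain ⟨c', rfl⟩ := he.bijective.2 v'
  simp only [Fintype.linearCombination_apply, linComb_germ] at h
  congr 1
  funext b
  exact germW_injective (congrFun (coeff_eq he h) b)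

/-- The discriminant argument: the exponents sum to zero. -/
theorem sum_eq_zero [IsFinite f] [Etale f] {r : ℕ} {d : Fin r → ℤ} (had : Adapted (Ef f) d) :
    ∑ a, d a = 0 := by
  classical
  obtain ⟨e₀, e₁, h₀, h₁, he⟩ := had
  have hW₀ := h₀.res (inf_le_left : W ≤ U₀)
  have hW₁ := h₁.res (inf_le_right : W ≤ U₁)
  letI := algU f U₀
  letI := algU f U₁
  letI := algU f (W)
  let b₀ := frameBasis f h₀
  let b₁ := frameBasis f h₁
  let bW₀ := frameBasis f hW₀
  let bW₁ := frameBasis f hW₁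
  haveI := etale_app f (isAffineOpen_std (k := k) 0)
  haveI := etale_app f (isAffineOpen_std (k := k) 1)
  haveI := Module.Finite.of_basis b₀
  haveI := Module.Free.of_basis b₀
  haveI := Module.Finite.of_basis b₁
  haveI := Module.Free.of_basis b₁
  obtain ⟨c₀, hc₀, hd₀⟩ := eq_C_of_isUnit 0 (isUnit_discr_of_etale b₀)
  obtain ⟨c₁, hc₁, hd₁⟩ := eq_C_of_isUnit 1 (isUnit_discr_of_etale b₁)
  have hres₀ : Algebra.discr Γ(P, W) bW₀ =
      (P).presheaf.map (homOfLE (inf_le_left : W ≤ U₀)).op (Algebra.discr Γ(P, U₀) b₀) :=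
    discr_map ((P).presheaf.map (homOfLE (inf_le_left : W ≤ U₀)).op).hom
      (X.presheaf.map (homOfLE (f.preimage_mono (inf_le_left : W ≤ U₀))).op).hom
      (fun a => (ConcreteCategory.congr_hom (f.naturality (homOfLE (inf_le_left : W ≤ U₀)).op) a).symm) b₀ bW₀
      fun i => by rw [frameBasis_apply, frameBasis_apply]; rfl
  have hres₁ : Algebra.discr Γ(P, W) bW₁ =
      (P).presheaf.map (homOfLE (inf_le_right : W ≤ U₁)).op (Algebra.discr Γ(P, U₁) b₁) :=
    discr_map ((P).presheaf.map (homOfLE (inf_le_right : W ≤ U₁)).op).hom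
      (X.presheaf.map (homOfLE (f.preimage_mono (inf_le_right : W ≤ U₁))).op).hom
      (fun a => (ConcreteCategory.congr_hom (f.naturality (homOfLE (inf_le_right : W ≤ U₁)).op) a).symm) b₁ bW₁
      fun i => by rw [frameBasis_apply, frameBasis_apply]; rfl
  -- the transition matrix
  choose c hc using fun a => hW₀.bijective.2 ((Ef f).presheaf.map (homOfLE (inf_le_right : W ≤ U₁)).op (e₁ a))
  let C : Matrix (ULift.{u} (Fin r)) (ULift.{u} (Fin r)) Γ(P, W) := Matrix.of fun a b => c a.down b.down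
  have hCb : (C.map (algebraMap Γ(P, W) Γ(X, f ⁻¹ᵁ W))).mulVec bW₀ = bW₁ := by
    funext a
    rw [frameBasis_apply]
    refine Eq.trans ?_ (hc a.down)
    rw [Fintype.linearCombination_apply, Matrix.mulVec, dotProduct]
    refine Fintype.sum_equiv Equiv.ulift _ _ fun b => ?_
    rw [Matrix.map_apply, frameBasis_apply, ← Algebra.smul_def]
    rfl
  have hCgerm : ∀ a b, (P).presheaf.germ W (gen 1 k) gen_mem_W (c a b) =
      if b = a then t 1 k 0 1 ^ d a else 0 := by
    intro a
    refine congrFun (coeff_eq (hU := gen_mem_W) hW₀ (x := fun b => (P).presheaf.germ W (gen 1 k) gen_mem_W (c a b))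
      (y := fun b => if b = a then t 1 k 0 1 ^ d a else 0) ?_)
    have h := congrArg (γg gen_mem_W) (hc a)
    rw [Fintype.linearCombination_apply, linComb_germ] at h
    refine h.trans ?_
    simp only [ite_smul, zero_smul, Finset.sum_ite_eq', Finset.mem_univ, if_true, γg,
      TopCat.Presheaf.germ_res_apply]
    exact he a
  have hdet : (P).presheaf.germ W (gen 1 k) gen_mem_W C.det = t 1 k 0 1 ^ ∑ a, d a := by
    rw [RingHom.map_det]
    have hdiag : ((P).presheaf.germ W (gen 1 k) gen_mem_W).hom.mapMatrix C =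
        Matrix.diagonal fun a => t 1 k 0 1 ^ d a.down := by
      ext a b
      rw [RingHom.mapMatrix_apply, Matrix.map_apply, Matrix.diagonal_apply]
      refine (hCgerm a.down b.down).trans ?_
      rcases eq_or_ne a b with rfl | hab
      · simp
      · rw [if_neg hab, if_neg fun h => hab (ULift.ext _ _ h.symm)]
    rw [hdiag, Matrix.det_diagonal]
    rw [show ∏ a : ULift.{u} (Fin r), t 1 k 0 1 ^ d a.down = ∏ a : Fin r, t 1 k 0 1 ^ d a from
      Fintype.prod_equiv Equiv.ulift _ _ fun _ => rfl]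
    suffices hs : ∀ s : Finset (Fin r), ∏ a ∈ s, t 1 k 0 1 ^ d a = t 1 k 0 1 ^ ∑ a ∈ s, d a from hs _
    intro s
    induction s using Finset.induction_on with
    | empty => simp
    | insert a s ha ih => rw [Finset.prod_insert ha, Finset.sum_insert ha, zpow_add₀ (t_ne_zero 1 k 0 1), ih]
  have key : C.det ^ 2 * Algebra.discr Γ(P, W) bW₀ = Algebra.discr Γ(P, W) bW₁ := by
    rw [← hCb, Algebra.discr_of_matrix_mulVec]
  have h := congrArg ((P).presheaf.germ W (gen 1 k) gen_mem_W) key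
  rw [map_mul, map_pow, hdet, hres₀, hres₁, hd₀, hd₁, TopCat.Presheaf.germ_res_apply,
    TopCat.Presheaf.germ_res_apply, germ_secP, germ_secP, ← lam_T, ← lam_chart0, ← lam_chart1, ← map_pow,
    ← map_mul, LaurentPolynomial.T_pow, chart1_C] at h
  have h2 := lam_injective h
  simp only [chart0, Polynomial.toLaurent_C] at h2
  rw [mul_comm, ← LaurentPolynomial.single_eq_C_mul_T, ← LaurentPolynomial.single_eq_C] at h2
  simp only [← AddMonoidAlgebra.coeff_inj, AddMonoidAlgebra.coeff_single, Finsupp.single_eq_single_iff] at h2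
  rcases h2 with ⟨h3, -⟩ | ⟨h3, -⟩
  · omega
  · exact absurd h3 hc₀

theorem const_secP (i : Fin 2) (c : k) :
    (P).presheaf.map (homOfLE (le_top (a := stdOpen 1 k i))).op (Coh.toGlobal (CohB1.ProjSpace.toSpec 1 k) c) =
      secP i (Polynomial.C c) := by
  have h := ProjCoh.φV_projφ (CohB1.polyGrading 1 k) (ProjMap.X_mem (R := k) i) one_pos c
  refine Eq.trans h ?_
  show Proj.awayToSection _ _ _ = Proj.awayToSection _ _ (polyToAway 1 k i (oneVar (Polynomial.C c)))
  rw [show oneVar (k := k) (Polynomial.C c) = MvPolynomial.C c by simp [oneVar], polyToAway, MvPolynomial.eval₂Hom_C]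
  rfl

/-- A finite étale cover with only constant functions is an isomorphism. -/
theorem isIso_of_finite_etale [IsFinite f] [Etale f] [Nonempty X]
    (hb : Function.Bijective (Coh.toGlobal (f ≫ CohB1.ProjSpace.toSpec 1 k))) : IsIso f := by
  classical
  haveI : IsIntegral (P) := PicProjLib.isIntegral_projSpace _ _
  obtain ⟨r, hr⟩ := exists_rank (FinLocFreeLib.isFinLocFree_push f ⟨inferInstance, inferInstance, inferInstance⟩)
  obtain ⟨d, -, had⟩ := SplitP1Lib.exists_adapted hr
  have hsum := sum_eq_zero f had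
  obtain ⟨e₀, e₁, h₀, h₁, he⟩ := had
  have hW₀ := h₀.res (inf_le_left : W ≤ U₀)
  letI := algU f U₀
  let b₀ := frameBasis f h₀
  have hcov : (⊤ : (P).Opens) ≤ ⨆ i, stdOpen 1 k i := (AmpleEmb.iSup_stdOpen 1 k).ge
  -- glued functions are constant
  have glue : ∀ (a : Fin r) (p q : Polynomial k),
      (chart0 p : k[T;T⁻¹]) = chart1 q * LaurentPolynomial.T (d a) →
      ∃ c : k, secP 0 p • b₀ ⟨a⟩ = algebraMap Γ(P, U₀) Γ(X, f ⁻¹ᵁ U₀) (secP 0 (Polynomial.C c)) := by
    intro a p q hpq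
    let g₀ : Γ(Ef f, U₀) := secP 0 p • e₀ a
    let g₁ : Γ(Ef f, U₁) := secP 1 q • e₁ a
    have hag : (Ef f).presheaf.map (homOfLE (inf_le_left : W ≤ U₀)).op g₀ =
        (Ef f).presheaf.map (homOfLE (inf_le_right : W ≤ U₁)).op g₁ := by
      refine γgW_injective hW₀ ?_
      simp only [γg, TopCat.Presheaf.germ_res_apply, g₀, g₁]
      rw [ParaFLib.germ_smul', ParaFLib.germ_smul', germ_secP, germ_secP]
      refine Eq.trans ?_ (congrArg (φp 1 q • ·) (he a)).symm
      rw [smul_smul, ← lam_T, ← lam_chart0, ← lam_chart1, ← map_mul, ← hpq]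
      rfl
    let gg : ∀ i : Fin 2, Γ(X, f ⁻¹ᵁ stdOpen 1 k i) := Fin.cons g₀ (Fin.cons g₁ finZeroElim)
    obtain ⟨g, hg, -⟩ := TopCat.Sheaf.existsUnique_gluing' X.sheaf (fun i : Fin 2 => f ⁻¹ᵁ stdOpen 1 k i) ⊤
      (fun _ => homOfLE le_top) (fun x _ => by
        obtain ⟨i, hi⟩ := Opens.mem_iSup.1 (hcov (Opens.mem_top (f x)))
        exact Opens.mem_iSup.2 ⟨i, hi⟩) gg (fun i j => by
        fin_cases i <;> fin_cases j
        · rfl
        · exact hag
        · have hagX : X.presheaf.map (homOfLE (f.preimage_mono (inf_le_left : W ≤ U₀))).op (g₀ : Γ(X, f ⁻¹ᵁ U₀)) =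
              X.presheaf.map (homOfLE (f.preimage_mono (inf_le_right : W ≤ U₁))).op (g₁ : Γ(X, f ⁻¹ᵁ U₁)) := hag
          have h2 := congrArg (X.presheaf.map (homOfLE (show f ⁻¹ᵁ stdOpen 1 k 1 ⊓ f ⁻¹ᵁ stdOpen 1 k 0 ≤ f ⁻¹ᵁ (W) from
            fun x hx => ⟨hx.2, hx.1⟩)).op) hagX.symm
          rw [← CommRingCat.comp_apply, ← CommRingCat.comp_apply, ← Functor.map_comp, ← Functor.map_comp] at h2
          exact h2
        · rfl)
    obtain ⟨c, rfl⟩ := hb.2 g
    refine ⟨c, ?_⟩
    have h0 := hg 0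
    rw [frameBasis_apply]
    refine Eq.trans h0.symm ?_
    rw [← const_secP]
    show X.presheaf.map _ (Coh.toGlobal (f ≫ CohB1.ProjSpace.toSpec 1 k) c) = f.app _ _
    exact (ConcreteCategory.congr_hom (f.naturality (homOfLE (le_top (a := U₀))).op)
      (Coh.toGlobal (CohB1.ProjSpace.toSpec 1 k) c)).symm
  have hinj : Function.Injective (secP (k := k) 0) := fun p q h => by
    have h' := congrArg ((P).presheaf.germ U₀ (gen 1 k) (gen_mem 1 k)) h
    rw [germ_secP, germ_secP] at h'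
    exact φp_injective 0 h'
  haveI : Nontrivial Γ(P, U₀) := inferInstance
  have hall : ∀ a, d a = 0 := by
    by_contra hne
    push Not at hne
    obtain ⟨a₀, ha₀⟩ := hne
    obtain ⟨a, ha⟩ : ∃ a, 1 ≤ d a := by
      by_contra hle
      push Not at hle
      have := Finset.sum_lt_sum (s := Finset.univ) (f := d) (g := fun _ => (0 : ℤ))
        (fun i _ => Int.lt_add_one_iff.1 (hle i))
        ⟨a₀, Finset.mem_univ _, lt_of_le_of_ne (Int.lt_add_one_iff.1 (hle a₀)) ha₀⟩
      simp [hsum] at this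
    obtain ⟨m, hm⟩ := Int.eq_ofNat_of_zero_le (show 0 ≤ d a - 1 by omega)
    obtain ⟨c, hc⟩ := glue a 1 (Polynomial.X ^ (m + 1)) (by
      rw [map_one, map_pow, chart1_apply, Polynomial.toLaurent_X, LaurentPolynomial.invert_T,
        LaurentPolynomial.T_pow, ← LaurentPolynomial.T_add, show ((m + 1 : ℕ) : ℤ) * -1 + d a = 0 by omega,
        LaurentPolynomial.T_zero])
    obtain ⟨c', hc'⟩ := glue a Polynomial.X (Polynomial.X ^ m) (by
      rw [map_pow, chart1_apply, Polynomial.toLaurent_X, LaurentPolynomial.invert_T,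
        LaurentPolynomial.T_pow, ← LaurentPolynomial.T_add, show (m : ℤ) * -1 + d a = 1 by omega])
    rw [map_one, one_smul] at hc
    have h3 : secP 0 (Polynomial.C c') • b₀ ⟨a⟩ = (secP 0 (Polynomial.C c) * secP 0 Polynomial.X) • b₀ ⟨a⟩ := by
      rw [mul_smul, hc', hc, Algebra.smul_def, Algebra.smul_def, mul_comm]
    have h4' : secP 0 (Polynomial.C c') = secP 0 (Polynomial.C c * Polynomial.X) := by
      rw [map_mul]
      simpa using congrArg (fun v => b₀.repr v ⟨a⟩) h3
    have h4 := hinj h4'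
    have h5 := congrArg (Polynomial.coeff · 1) h4
    simp at h5
    apply b₀.ne_zero ⟨a⟩
    simp [hc, h5.symm]
  have hsub : Subsingleton (Fin r) := ⟨fun a b => by
    by_contra hab
    obtain ⟨c, hc⟩ := glue a 1 1 (by rw [hall a]; simp)
    obtain ⟨c', hc'⟩ := glue b 1 1 (by rw [hall b]; simp)
    rw [map_one, one_smul] at hc hc'
    have h3 : secP 0 (Polynomial.C c') • b₀ ⟨a⟩ = secP 0 (Polynomial.C c) • b₀ ⟨b⟩ := by
      rw [hc, hc', Algebra.smul_def, Algebra.smul_def, mul_comm]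
    have h4 := congrArg (fun v => b₀.repr v ⟨a⟩) h3
    simp [hab, Ne.symm hab] at h4
    apply b₀.ne_zero ⟨b⟩
    rw [hc', h4, map_zero]⟩
  have key : ∀ i : Fin 2, ∀ (e : Fin r → Γ(Ef f, stdOpen 1 k i)), IsFrame (stdOpen 1 k i) e →
      IsIso (f.app (stdOpen 1 k i)) := by
    intro i e hfr
    letI := algU f (stdOpen 1 k i)
    let b := frameBasis f hfr
    haveI : Nonempty (stdOpen 1 k i : (P).Opens) := ⟨⟨gen 1 k, gen_mem 1 k⟩⟩
    haveI : Subsingleton (ULift.{u} (Fin r)) := Equiv.ulift.subsingleton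
    rw [ConcreteCategory.isIso_iff_bijective]
    show Function.Bijective (algebraMap Γ(P, stdOpen 1 k i) Γ(X, f ⁻¹ᵁ stdOpen 1 k i))
    rcases isEmpty_or_nonempty (Fin r) with hr0 | ⟨⟨a⟩⟩
    · exfalso
      obtain ⟨x⟩ := ‹Nonempty X›
      obtain ⟨l⟩ := CurveLib.freeAt_of_isFinLocFreeOfRank hr (f x)
      haveI : Subsingleton ((Ef f).presheaf.stalk (f x)) := l.toEquiv.subsingleton
      have h1 : (Ef f).presheaf.germ ⊤ (f x) (Opens.mem_top _) (show Γ(Ef f, ⊤) from (1 : Γ(X, f ⁻¹ᵁ ⊤))) =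
          (Ef f).presheaf.germ ⊤ (f x) (Opens.mem_top _) 0 := Subsingleton.elim _ _
      obtain ⟨V, hxV, i₁, i₂, hV⟩ := TopCat.Presheaf.germ_eq (Ef f).presheaf (f x) (Opens.mem_top _) (Opens.mem_top _) _ _ h1
      have h2 : X.presheaf.map (homOfLE (f.preimage_mono (le_top (a := V)))).op (1 : Γ(X, f ⁻¹ᵁ ⊤)) = 0 :=
        hV.trans (map_zero _)
      rw [map_one] at h2
      have h3 := congrArg (X.presheaf.germ (f ⁻¹ᵁ V) x hxV) h2
      rw [map_one, map_zero] at h3
      exact one_ne_zero h3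
    have hx : ∀ v, v = b.repr v ⟨a⟩ • b ⟨a⟩ := fun v => by
      conv_lhs => rw [← b.sum_repr v]
      rw [Finset.sum_eq_single (⟨a⟩ : ULift.{u} (Fin r)) (fun w _ hw => absurd (Subsingleton.elim w _) hw) (by simp)]
    have hu : IsUnit (b.repr 1 ⟨a⟩) := by
      refine IsUnit.of_mul_eq_one (b.repr (b ⟨a⟩ * b ⟨a⟩) ⟨a⟩) ?_
      have h := congrArg (fun v => b.repr v ⟨a⟩)
        (show b ⟨a⟩ = b.repr 1 ⟨a⟩ • (b ⟨a⟩ * b ⟨a⟩) by rw [← smul_mul_assoc, ← hx, one_mul])
      simpa using h.symm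
    refine ⟨(injective_iff_map_eq_zero _).2 fun y hy => ?_, fun v => ?_⟩
    · have h : y • (1 : Γ(X, f ⁻¹ᵁ stdOpen 1 k i)) = 0 := by rw [Algebra.smul_def, hy, zero_mul]
      have h' := congrArg (fun v => b.repr v ⟨a⟩) h
      simp only [map_smul, map_zero, Finsupp.smul_apply, smul_eq_mul, Finsupp.zero_apply] at h'
      exact hu.mul_left_eq_zero.1 h'
    · refine ⟨b.repr v ⟨a⟩ * (↑hu.unit⁻¹ : Γ(P, stdOpen 1 k i)), ?_⟩
      rw [Algebra.algebraMap_eq_smul_one]
      refine (congrArg (fun w : Γ(X, f ⁻¹ᵁ stdOpen 1 k i) => (b.repr v ⟨a⟩ * (↑hu.unit⁻¹ : Γ(P, stdOpen 1 k i))) • w) (hx 1)).trans ?_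
      rw [smul_smul, mul_assoc, IsUnit.val_inv_mul, mul_one]
      exact (hx v).symm
  refine show MorphismProperty.isomorphisms Scheme f from
    (IsZariskiLocalAtTarget.iff_of_iSup_eq_top (fun i => stdOpen 1 k i) (AmpleEmb.iSup_stdOpen 1 k)).2 fun i => ?_
  refine (isIso_morphismRestrict_iff_isIso_app f (isAffineOpen_std (k := k) i)).2 ?_
  fin_cases i
  · exact key _ e₀ h₀
  · exact key _ e₁ h₁

end Groth.Agent.CurveP1Lib
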