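import Groth.Agent.CurveP1Lib.DegOne
import Groth.Agent.CurveP1Lib.H0One
import Groth.Agent.CurveP1Lib.SimplyConnected
import Groth.Agent.VBLib.Point
import Groth.Agent.VBLib.Regular
import Groth.Agent.ShBCLib.Finrank
import Groth.Agent.LocDimBC.Scheme
import Groth.Agent.DimFormulaLib.Scheme
import Groth.Agent.PicLib.Group
import Mathlib.AlgebraicGeometry.Morphisms.FlatDescent

/-!
Smooth genus zero curves become the projective line over an algebraically closed field; étale covers.
-/

set_option autoImplicit false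
set_option backward.isDefEq.respectTransparency false
set_option linter.style.haveILetI false
universe u
open CategoryTheory CategoryTheory.Limits AlgebraicGeometry TopologicalSpace Opposite
open Groth.Agent.CohBase

noncomputable section

namespace Groth.Agent.CurveP1Lib

/-- A scheme over a field with only constant global functions is connected. -/
theorem connectedSpace_of_bijective {k : Type u} [Field k] {X : Scheme.{u}} (p : X ⟶ Spec (CommRingCat.of k))
    (hb : Function.Bijective (Coh.toGlobal p)) : ConnectedSpace X := by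
  classical
  haveI : Nonempty X := by
    by_contra h
    rw [not_nonempty_iff] at h
    haveI : Subsingleton Γ(X, ⊤) := (show (⊤ : X.Opens) = ⊥ from Opens.ext (Set.eq_empty_of_isEmpty _)) ▸ inferInstance
    exact zero_ne_one (hb.1 (@Subsingleton.elim Γ(X, ⊤) _ (Coh.toGlobal p 0) (Coh.toGlobal p 1)))
  haveI : PreconnectedSpace X := by
    refine preconnectedSpace_iff_clopen.2 fun C hC => ?_
    by_contra hne
    push Not at hne
    obtain ⟨hne0, hne1⟩ := hne
    obtain ⟨x, hx⟩ := hne0
    obtain ⟨y, hy⟩ := (Set.ne_univ_iff_exists_notMem C).1 hne1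
    let U : Bool → X.Opens := fun b => cond b ⟨C, hC.2⟩ ⟨Cᶜ, hC.1.isOpen_compl⟩
    let v : ∀ b, Γ(X, U b) := fun b => cond b 1 0
    have hbot : ∀ b b', b ≠ b' → Subsingleton Γ(X, U b ⊓ U b') := fun b b' h => by
      have he : U b ⊓ U b' = ⊥ := by
        refine le_bot_iff.1 fun z hz => ?_
        cases b <;> cases b'
        · exact absurd rfl h
        · exact absurd hz.2 hz.1
        · exact absurd hz.1 hz.2
        · exact absurd rfl h
      rw [he]
      infer_instance
    obtain ⟨g, hg, -⟩ := TopCat.Sheaf.existsUnique_gluing' X.sheaf U ⊤ (fun _ => homOfLE le_top)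
      (fun z _ => by
        by_cases hz : z ∈ C
        · exact Opens.mem_iSup.2 ⟨true, hz⟩
        · exact Opens.mem_iSup.2 ⟨false, hz⟩) v (fun b b' => by
        rcases eq_or_ne b b' with rfl | h
        · rfl
        · exact (hbot b b' h).elim _ _)
    obtain ⟨c, rfl⟩ := hb.2 g
    have h1 := congrArg (X.presheaf.germ (U true) x hx) (hg true)
    have h2 := congrArg (X.presheaf.germ (U false) y hy) (hg false)
    change X.presheaf.germ (U true) x hx (X.presheaf.map _ (Coh.toGlobal p c)) = X.presheaf.germ (U true) x hx 1 at h1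
    change X.presheaf.germ (U false) y hy (X.presheaf.map _ (Coh.toGlobal p c)) = X.presheaf.germ (U false) y hy 0 at h2
    rw [TopCat.Presheaf.germ_res_apply, map_one] at h1
    rw [TopCat.Presheaf.germ_res_apply, map_zero] at h2
    have hc : c = 0 := RingHom.injective ((X.presheaf.germ ⊤ y (Opens.mem_top y)).hom.comp (Coh.toGlobal p))
      (h2.trans (map_zero _).symm)
    rw [hc, map_zero, map_zero] at h1
    exact zero_ne_one h1
  exact ⟨inferInstance⟩

section AlgClosed

variable {K : Type u} [Field K] [IsAlgClosed K] {Z : Scheme.{u}} [Z.Over (Spec (CommRingCat.of K))]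
  [IsProper (Z ↘ Spec (CommRingCat.of K))] [Smooth (Z ↘ Spec (CommRingCat.of K))] [IsIntegral Z]

/-- Over an algebraically closed field a smooth curve of genus zero is the projective line. -/
theorem exists_iso_P1_of_algClosed (hdim : topologicalKrullDim Z = 1) (hg : Curv2.genus K Z = 0) :
    ∃ e : Z ≅ CohB1.ProjSpace 1 K, e.hom ≫ CohB1.ProjSpace.toSpec 1 K = Z ↘ (Spec (CommRingCat.of K)) := by
  haveI := EulerIneqLib.isNoetherian_proper (X := Z) K
  haveI := VBLib.isRegCurve_of_smooth K hdim.le
  obtain ⟨x, -, hx⟩ := IsClosed.exists_closed_singleton (isClosed_univ (X := Z)) Set.univ_nonempty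
  obtain ⟨hI, hdeg, -⟩ := VBLib.point_ideal K hdim hx
  obtain ⟨L, hL, ⟨e⟩⟩ := AmpleEmb.exists_isInverseOf hI
  refine exists_iso_P1_of_genus_zero hdim hg hL ?_
  have h := CurveLib.deg_tensor_add (k := K) hdim.le hI hL
  rw [CurveLib.deg_iso (k := K) e, CurveLib.deg_structureModule, hdeg] at h
  omega

end AlgClosed

/-- Finite étale covers of a copy of the projective line with constant functions are isomorphisms. -/
theorem isIso_of_finite_etale_of_iso {k : Type u} [Field k] {X Y : Scheme.{u}} (f : X ⟶ Y) [IsFinite f] [Etale f]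
    (p : Y ⟶ Spec (CommRingCat.of k)) (e : Y ≅ CohB1.ProjSpace 1 k) (he : e.hom ≫ CohB1.ProjSpace.toSpec 1 k = p)
    (hb : Function.Bijective (Coh.toGlobal (f ≫ p))) : IsIso f := by
  haveI := connectedSpace_of_bijective _ hb
  haveI : IsIso (f ≫ e.hom) := by
    refine isIso_of_finite_etale (f ≫ e.hom) ?_
    rwa [Category.assoc, he]
  exact IsIso.of_isIso_comp_right f e.hom

section BaseChange

variable (k : Type u) [Field k] (K : Type u) [Field K] [Algebra k K] {X : Scheme.{u}}
  [X.Over (Spec (CommRingCat.of k))]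

theorem smooth_bc [Smooth (X ↘ Spec (CommRingCat.of k))] : Smooth (Curv2.bc k X K ↘ Spec (CommRingCat.of K)) :=
  inferInstanceAs (Smooth (pullback.snd (X ↘ Spec (CommRingCat.of k))
    (Spec.map (CommRingCat.ofHom (algebraMap k K)))))

variable [IsProper (X ↘ Spec (CommRingCat.of k))]

theorem finrank_HH_bc_structure (i : ℕ) :
    Module.finrank K (Coh.HH (Curv2.bc k X K) (Coh.structureModule (Curv2.bc k X K)) i) =
      Module.finrank k (Coh.HH X (Coh.structureModule X) i) := by
  haveI : Coh.IsQCoh (Coh.structureModule X) := CohBase.isQCoh_structureModule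
  rw [← ShBCLib.finrank_HH_bc k K (Coh.structureModule X) i]
  exact ShBCLib.finrank_HH_iso (DCohLib.pullStructureIso (Curv2.bcFst k X K)).symm i

theorem bijective_toGlobal_bc (h0 : Module.finrank k (Coh.HH X (Coh.structureModule X) 0) = 1) :
    Function.Bijective (Coh.toGlobal (Curv2.bc k X K ↘ Spec (CommRingCat.of K))) :=
  bijective_toGlobal_of_h0 ((finrank_HH_bc_structure k K 0).trans h0)

theorem dim_bc : topologicalKrullDim (Curv2.bc k X K) = topologicalKrullDim X := by
  haveI : LocallyOfFiniteType (X ↘ Spec (CommRingCat.of k)) := inferInstance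
  haveI := ShBCLib.surjective_bcFst k K (X := X)
  have sq := IsPullback.of_hasPullback (X ↘ Spec (CommRingCat.of k)) (Spec.map (CommRingCat.ofHom (algebraMap k K)))
  rw [DimFormulaLib.topologicalKrullDim_eq_iSup_localDim, DimFormulaLib.topologicalKrullDim_eq_iSup_localDim]
  refine le_antisymm (iSup_le fun z => (LocDimBC.localDim_fieldExtension (k := k) (K := K) sq z).le.trans
    (le_iSup (fun x => FlatMor.localDim X x) _)) (iSup_le fun x => ?_)
  obtain ⟨z, rfl⟩ := (Curv2.bcFst k X K).surjective x
  exact (LocDimBC.localDim_fieldExtension (k := k) (K := K) sq z).ge.trans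
    (le_iSup (fun w => FlatMor.localDim (Curv2.bc k X K) w) z)

/-- A smooth genus zero curve with constant functions becomes the projective line over `K`. -/
theorem exists_iso_P1_bc [IsAlgClosed K] [Smooth (X ↘ Spec (CommRingCat.of k))]
    (hdim : topologicalKrullDim X = 1) (h0 : Module.finrank k (Coh.HH X (Coh.structureModule X) 0) = 1)
    (hg : Curv2.genus k X = 0) :
    ∃ e : Curv2.bc k X K ≅ CohB1.ProjSpace 1 K,
      e.hom ≫ CohB1.ProjSpace.toSpec 1 K = Curv2.bc k X K ↘ Spec (CommRingCat.of K) := by
  haveI := smooth_bc k K (X := X)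
  haveI := connectedSpace_of_bijective _ (bijective_toGlobal_bc k K h0)
  haveI := CurveLib.isIntegral_of_smooth (X := Curv2.bc k X K) K
  exact exists_iso_P1_of_algClosed ((dim_bc k K).trans hdim) ((finrank_HH_bc_structure k K 1).trans hg)

end BaseChange

/-- Finite étale covers with constant functions of a smooth genus zero curve are isomorphisms. -/
theorem isIso_of_finite_etale_genus_zero (k : Type u) [Field k] {X Y : Scheme.{u}}
    [X.Over (Spec (CommRingCat.of k))] [Y.Over (Spec (CommRingCat.of k))]
    [IsProper (Y ↘ Spec (CommRingCat.of k))] [Smooth (Y ↘ Spec (CommRingCat.of k))]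
    [IsProper (X ↘ Spec (CommRingCat.of k))]
    (hdY : topologicalKrullDim Y = 1) (hY0 : Module.finrank k (Coh.HH Y (Coh.structureModule Y) 0) = 1)
    (hX0 : Module.finrank k (Coh.HH X (Coh.structureModule X) 0) = 1)
    (f : X ⟶ Y) [IsFinite f] [Etale f] (hf : f ≫ (Y ↘ Spec (CommRingCat.of k)) = X ↘ Spec (CommRingCat.of k))
    (hg : Curv2.genus k Y = 0) : IsIso f := by
  let K := AlgebraicClosure k
  obtain ⟨e, he⟩ := exists_iso_P1_bc k K hdY hY0 hg
  let fK : Curv2.bc k X K ⟶ Curv2.bc k Y K := pullback.map _ _ _ _ f (𝟙 _) (𝟙 _) (by rw [Category.comp_id, hf]) (by simp)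
  have h1 : fK ≫ Curv2.bcFst k Y K = Curv2.bcFst k X K ≫ f := pullback.lift_fst _ _ _
  have h2 : fK ≫ (Curv2.bc k Y K ↘ Spec (CommRingCat.of K)) = Curv2.bc k X K ↘ Spec (CommRingCat.of K) :=
    (pullback.lift_snd _ _ _).trans (Category.comp_id _)
  have sq : IsPullback (Curv2.bcFst k X K) fK f (Curv2.bcFst k Y K) := by
    refine IsPullback.of_bot ?_ h1.symm (IsPullback.of_hasPullback (Y ↘ Spec (CommRingCat.of k))
      (Spec.map (CommRingCat.ofHom (algebraMap k K))))
    rw [hf, show fK ≫ pullback.snd (Y ↘ Spec (CommRingCat.of k)) (Spec.map (CommRingCat.ofHom (algebraMap k K))) =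
      pullback.snd (X ↘ Spec (CommRingCat.of k)) (Spec.map (CommRingCat.ofHom (algebraMap k K))) from h2]
    exact IsPullback.of_hasPullback (X ↘ Spec (CommRingCat.of k)) (Spec.map (CommRingCat.ofHom (algebraMap k K)))
  haveI : IsFinite fK := MorphismProperty.of_isPullback sq inferInstance
  haveI : Etale fK := MorphismProperty.of_isPullback sq inferInstance
  haveI hiso : IsIso fK := by
    refine isIso_of_finite_etale_of_iso fK _ e he ?_
    rw [h2]
    exact bijective_toGlobal_bc k K hX0
  haveI := ShBCLib.flat_bcFst k K (X := Y)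
  haveI := ShBCLib.surjective_bcFst k K (X := Y)
  haveI : QuasiCompact (Curv2.bcFst k Y K) :=
    inferInstanceAs (QuasiCompact (pullback.fst (Y ↘ Spec (CommRingCat.of k))
      (Spec.map (CommRingCat.ofHom (algebraMap k K)))))
  exact MorphismProperty.of_isPullback_of_descendsAlong (P := MorphismProperty.isomorphisms Scheme.{u})
    (Q := @Surjective ⊓ @Flat ⊓ @QuasiCompact) sq.flip
    ⟨⟨inferInstance, inferInstance⟩, inferInstance⟩ hiso

end Groth.Agent.CurveP1Lib
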