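import Groth.Agent.CurveP1Lib.DegOne
import Groth.Agent.VBLib.Point
import Groth.Agent.S1570
import Groth.Agent.S8914
import Groth.Agent.BMCohLib.Split
import Groth.Agent.ShBCLib.Finrank

/-!
The ideal of a rational point with principal maximal ideal on a proper curve.
-/

set_option autoImplicit false
set_option backward.isDefEq.respectTransparency false
set_option linter.style.haveILetI false
universe u
open CategoryTheory CategoryTheory.Limits AlgebraicGeometry TopologicalSpace Opposite
open Groth.Agent.PullbackMod Groth.Agent.DevLib Groth.Agent.QCohLib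

noncomputable section

namespace Groth.Agent.CurveP1Lib

/-- The vanishing ideal of a closed point generates the maximal ideal. -/
theorem map_vanishingIdeal_singleton {X : Scheme.{u}} {x : X} (hxc : IsClosed ({x} : Set X)) (U : X.affineOpens)
    (hx : x ∈ (U : X.Opens)) :
    ((Scheme.IdealSheafData.vanishingIdeal (⟨{x}, hxc⟩ : Closeds X)).ideal U).map (X.presheaf.germ U x hx).hom =
      IsLocalRing.maximalIdeal (X.presheaf.stalk x) := by
  letI : Algebra Γ(X, U) (X.presheaf.stalk x) := TopCat.Presheaf.algebra_section_stalk X.presheaf ⟨x, hx⟩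
  haveI := U.2.isLocalization_stalk ⟨x, hx⟩
  have hpre : U.2.fromSpec ⁻¹' ({x} : Set X) = {U.2.primeIdealOf ⟨x, hx⟩} := by
    ext p
    refine ⟨fun h => U.2.fromSpec.isOpenEmbedding.injective (Eq.trans h (U.2.fromSpec_primeIdealOf ⟨x, hx⟩).symm), ?_⟩
    rintro rfl
    exact U.2.fromSpec_primeIdealOf _
  show (PrimeSpectrum.vanishingIdeal (U.2.fromSpec ⁻¹' ({x} : Set X))).map (algebraMap Γ(X, U) _) = _
  rw [hpre, PrimeSpectrum.vanishingIdeal_singleton]
  exact IsLocalization.AtPrime.map_eq_maximalIdeal _ _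

variable {k : Type u} [Field k] {X : Scheme.{u}} [X.Over (Spec (CommRingCat.of k))]
  [IsProper (X ↘ Spec (CommRingCat.of k))] [IsIntegral X]

/-- A point whose ideal is invertible gives a module of degree the degree of its residue field. -/
theorem exists_deg_point (hdim : topologicalKrullDim X = 1) {F : Type u} [Field F] [Algebra k F]
    (s : Spec (CommRingCat.of F) ⟶ X) [IsClosedImmersion s]
    (hs : s ≫ (X ↘ Spec (CommRingCat.of k)) = Spec.map (CommRingCat.ofHom (algebraMap k F)))
    (x : X) (hxs : Set.range s ⊆ {x}) (hxc : IsClosed ({x} : Set X))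
    (hpr : ∃ g : X.presheaf.stalk x, g ≠ 0 ∧ IsLocalRing.maximalIdeal (X.presheaf.stalk x) = Ideal.span {g}) :
    ∃ L : X.Modules, PicF.IsInvertible L ∧ Curv2.deg k X L 1 = Module.finrank k F ∧
      ClSub.IsInverseOf L (ClSub.idealMod (Scheme.IdealSheafData.vanishingIdeal (⟨{x}, hxc⟩ : Closeds X))) ∧
      BlowUp.IsEffCartierIdeal (Scheme.IdealSheafData.vanishingIdeal (⟨{x}, hxc⟩ : Closeds X)) := by
  haveI := EulerIneqLib.isNoetherian_proper (X := X) k
  let J := Scheme.IdealSheafData.vanishingIdeal (⟨{x}, hxc⟩ : Closeds X)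
  have hJ : BlowUp.IsEffCartierIdeal J := by
    refine S1570.result X J fun y hy U hyU => ?_
    rw [← SetLike.mem_coe, Scheme.IdealSheafData.coe_support_vanishingIdeal] at hy
    change y ∈ ({x} : Set X) at hy
    obtain rfl : y = x := hy
    obtain ⟨g, hg, hgm⟩ := hpr
    exact ⟨g, mem_nonZeroDivisors_of_ne_zero hg, (map_vanishingIdeal_singleton hxc U hyU).trans hgm⟩
  have hI : PicF.IsInvertible (ClSub.idealMod J) := (S8914.result J).2 hJ
  haveI := Groth.Agent.SerreAff.epi_unitToPush J.subschemeι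
  let q : Coh.structureModule X ⟶ ClSub.quotMod J := ClSub.toSubscheme J
  haveI : Epi q := inferInstanceAs (Epi (ClSub.toSubscheme J))
  let e : cokernel (kernel.ι q) ≅ ClSub.quotMod J := IsColimit.coconePointUniqueUpToIso
    (cokernelIsCokernel _) (Abelian.epiIsCokernelOfKernel _ (kernelIsKernel q))
  have hne : ClSub.idealModι J ≠ 0 := by
    intro h0
    have hz : IsZero (ClSub.idealMod J) := by
      rw [IsZero.iff_id_eq_zero]
      exact (cancel_mono (kernel.ι (ClSub.toSubscheme J))).1
        ((Category.id_comp _).trans (h0.trans (zero_comp).symm))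
    obtain ⟨l⟩ := CurveLib.freeAt_of_isFinLocFreeOfRank (CurveLib.isFinLocFreeOfRank_one hI) (genericPoint X)
    haveI : Subsingleton ((ClSub.idealMod J).presheaf.stalk (genericPoint X)) := by
      refine subsingleton_of_forall_eq 0 fun a => ?_
      obtain ⟨U, hU, t, rfl⟩ := TopCat.Presheaf.germ_exist (ClSub.idealMod J).presheaf a
      have h1 : (𝟙 (ClSub.idealMod J) : ClSub.idealMod J ⟶ _).app U t = (0 : ClSub.idealMod J ⟶ _).app U t := by
        rw [hz.eq_of_src (𝟙 _) 0]
      rw [show t = 0 from h1.trans rfl, map_zero]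
    haveI : Subsingleton (Fin 1 → X.presheaf.stalk (genericPoint X)) := l.symm.toEquiv.subsingleton
    exact one_ne_zero (α := X.presheaf.stalk (genericPoint X))
      (congrFun (Subsingleton.elim (fun _ : Fin 1 => (1 : X.presheaf.stalk (genericPoint X))) 0) 0)
  obtain ⟨hdeg, -⟩ := CurveLib.deg_eq_add_coker (k := k) hdim.le hI ParaFLib.isInvertible_structureModule hne
  -- the point is the spectrum of `F`
  let Z := J.subscheme
  haveI hZ : IsIntegral Z := CurveLib.isIntegral_vanishingIdeal hxc isIrreducible_singleton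
  letI : Z.Over (Spec (CommRingCat.of k)) := ⟨J.subschemeι ≫ (X ↘ Spec (CommRingCat.of k))⟩
  obtain ⟨σ, hσ⟩ := BMCohLib.exists_lift_vanishingIdeal s (⟨{x}, hxc⟩ : Closeds X) hxs
  have hσ' : σ ≫ (Z ↘ Spec (CommRingCat.of k)) = Spec.map (CommRingCat.ofHom (algebraMap k F)) := by
    show σ ≫ J.subschemeι ≫ _ = _
    rw [← Category.assoc, hσ, hs]
  haveI : Subsingleton Z := ⟨fun a b => J.subschemeι.isClosedEmbedding.injective (by
    have h : ∀ c : Z, J.subschemeι c = x := fun c => by
      have h1 : J.subschemeι c ∈ Set.range J.subschemeι := ⟨c, rfl⟩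
      rw [Scheme.IdealSheafData.range_subschemeι, Scheme.IdealSheafData.coe_support_vanishingIdeal] at h1
      exact h1
    rw [h a, h b])⟩
  haveI : IsClosedImmersion (σ ≫ J.subschemeι) := by rw [hσ]; infer_instance
  haveI : IsClosedImmersion σ := IsClosedImmersion.of_comp σ J.subschemeι
  haveI : Surjective σ := ⟨fun a => ⟨default, Subsingleton.elim _ _⟩⟩
  haveI : IsIso σ := isIso_of_isClosedImmersion_of_surjective _
  haveI : IsLocallyNoetherian Z := LocallyOfFiniteType.isLocallyNoetherian J.subschemeι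
  haveI : Coh.IsQCoh (Coh.structureModule Z) := (isCoh_structureModule Z).1
  haveI : IsProper (Z ↘ Spec (CommRingCat.of k)) :=
    inferInstanceAs (IsProper (J.subschemeι ≫ (X ↘ Spec (CommRingCat.of k))))
  have h0 : Module.finrank k (Coh.HH Z (Coh.structureModule Z) 0) = Module.finrank k F := by
    letI : Algebra k Γ(Z, ⊤) := (Coh.toGlobal (Z ↘ Spec (CommRingCat.of k))).toAlgebra
    let el : Coh.HH Z (Coh.structureModule Z) 0 ≃ₗ[k] Γ(Z, ⊤) :=
      { (CurveLib.secOf (Coh.structureModule Z)) with map_smul' := fun r c => CurveLib.secOf_smul (k := k) _ r c }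
    rw [el.finrank_eq]
    let ρ : Γ(Z, ⊤) ≃+* F := ((asIso σ.appTop) ≪≫ Scheme.ΓSpecIso (CommRingCat.of F)).commRingCatIsoToRingEquiv
    have hρ : ∀ c : k, ρ (algebraMap k Γ(Z, ⊤) c) = algebraMap k F c := fun c => by
      have h1 : (Scheme.ΓSpecIso (CommRingCat.of k)).inv ≫ (Z ↘ Spec (CommRingCat.of k)).appTop ≫ σ.appTop ≫
          (Scheme.ΓSpecIso (CommRingCat.of F)).hom = CommRingCat.ofHom (algebraMap k F) := by
        rw [← Scheme.Hom.comp_appTop_assoc, hσ', Scheme.ΓSpecIso_naturality, Iso.inv_hom_id_assoc]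
      exact ConcreteCategory.congr_hom h1 c
    have hlin : ∀ (c : k) (a : Γ(Z, ⊤)), ρ (c • a) = c • ρ a := fun c a => by
      rw [Algebra.smul_def, Algebra.smul_def, map_mul, hρ]
    exact (ρ.toAddEquiv.toLinearEquiv hlin).finrank_eq
  have hQ : Module.finrank k (Coh.HH X (cokernel (ClSub.idealModι J)) 0) = Module.finrank k F := by
    have h := IntLib.finrank_push k J.subschemeι rfl (Coh.structureModule Z) 0
    rw [h0] at h
    exact (ShBCLib.finrank_HH_iso e 0).trans h
  rw [hQ, CurveLib.deg_structureModule] at hdeg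
  obtain ⟨L, hL, ⟨eL⟩⟩ := AmpleEmb.exists_isInverseOf hI
  refine ⟨L, hL, ?_, ⟨AmpleLib.comm _ _ ≪≫ eL⟩, hJ⟩
  have h := CurveLib.deg_tensor_add (k := k) hdim.le hI hL
  rw [CurveLib.deg_iso (k := k) eL, CurveLib.deg_structureModule] at h
  omega

/-- A rational point with principal maximal ideal gives a module of degree one. -/
theorem exists_deg_one (hdim : topologicalKrullDim X = 1) (s : Spec (CommRingCat.of k) ⟶ X)
    (hs : s ≫ (X ↘ Spec (CommRingCat.of k)) = 𝟙 _) (x : X) (hxs : Set.range s ⊆ {x}) (hxc : IsClosed ({x} : Set X))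
    (hpr : ∃ g : X.presheaf.stalk x, g ≠ 0 ∧ IsLocalRing.maximalIdeal (X.presheaf.stalk x) = Ideal.span {g}) :
    ∃ L : X.Modules, PicF.IsInvertible L ∧ Curv2.deg k X L 1 = 1 ∧
      ClSub.IsInverseOf L (ClSub.idealMod (Scheme.IdealSheafData.vanishingIdeal (⟨{x}, hxc⟩ : Closeds X))) ∧
      BlowUp.IsEffCartierIdeal (Scheme.IdealSheafData.vanishingIdeal (⟨{x}, hxc⟩ : Closeds X)) := by
  haveI : IsClosedImmersion (s ≫ (X ↘ Spec (CommRingCat.of k))) := by rw [hs]; infer_instance
  haveI : IsClosedImmersion s := IsClosedImmersion.of_comp s (X ↘ Spec (CommRingCat.of k))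
  have h := exists_deg_point hdim s (hs.trans (Spec.map_id _).symm) x hxs hxc hpr
  rw [Module.finrank_self] at h
  exact_mod_cast h

end Groth.Agent.CurveP1Lib
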