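import Groth.Agent.CurveP1Lib.PointIdeal
import Groth.Agent.CurveP1Lib.GeomP1
import Groth.Agent.S7775
import Groth.Agent.S1535
import Groth.Agent.PicLib.Group
import Groth.Agent.GeomIrred.CurvPoint
import Groth.Agent.SmoothSliceLib.SepPoint
import Mathlib.AlgebraicGeometry.Morphisms.LocalFlatDescent

/-!
Genus zero curves with a regular rational point, and over separably closed fields.
-/

set_option autoImplicit false
set_option backward.isDefEq.respectTransparency false
set_option linter.style.haveILetI false
universe u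
open CategoryTheory CategoryTheory.Limits AlgebraicGeometry TopologicalSpace Opposite

noncomputable section

namespace Groth.Agent.CurveP1Lib

variable {k : Type u} [Field k] {X : Scheme.{u}} [X.Over (Spec (CommRingCat.of k))]
  [IsProper (X ↘ Spec (CommRingCat.of k))] [IsIntegral X]

/-- The maximal ideal at an integrally closed closed point of a curve is principal and nonzero. -/
theorem principal_of_normal [IsLocallyNoetherian X] (hdim : topologicalKrullDim X = 1) (x : X)
    (hxc : IsClosed ({x} : Set X)) (hn : IsIntegrallyClosed (X.presheaf.stalk x)) :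
    ∃ g : X.presheaf.stalk x, g ≠ 0 ∧ IsLocalRing.maximalIdeal (X.presheaf.stalk x) = Ideal.span {g} := by
  have hd : ringKrullDim (X.presheaf.stalk x) ≤ 1 := by
    rw [ringKrullDim_stalk_eq_coheight]
    have h := hdim.le
    rw [ASp.topologicalKrullDim_eq_krullDim] at h
    exact (Order.coheight_le_krullDim _).trans h
  haveI : Ring.KrullDimLE 1 (X.presheaf.stalk x) := (Ring.krullDimLE_iff).2 (by exact_mod_cast hd)
  have hp : (IsLocalRing.maximalIdeal (X.presheaf.stalk x)).IsPrincipal :=
    ((tfae_of_isNoetherianRing_of_isLocalRing_of_isDomain (X.presheaf.stalk x)).out 3 4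
      (a := IsIntegrallyClosed (X.presheaf.stalk x) ∧ ∀ P : Ideal (X.presheaf.stalk x),
        P ≠ ⊥ → P.IsPrime → P = IsLocalRing.maximalIdeal (X.presheaf.stalk x))
      (b := (IsLocalRing.maximalIdeal (X.presheaf.stalk x)).IsPrincipal) rfl rfl).1
      ⟨hn, fun P hP hP' => IsLocalRing.eq_maximalIdeal
        (Ring.krullDimLE_one_iff_of_noZeroDivisors.1 inferInstance P hP hP')⟩
  obtain ⟨g, hg'⟩ := hp
  have hgne : g ≠ 0 := by
    rintro rfl
    have hfield : IsField (X.presheaf.stalk x) := by
      rw [IsLocalRing.isField_iff_maximalIdeal_eq, hg']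
      exact Submodule.span_zero_singleton _
    have h0 := ringKrullDim_eq_zero_of_isField hfield
    rw [ringKrullDim_stalk_eq_coheight] at h0
    have hco : Order.coheight x = 0 := by exact_mod_cast h0
    have hmax : IsMax x := Order.coheight_eq_zero.1 hco
    have hgen : genericPoint X ⤳ x := genericPoint_specializes _
    have hle : x ≤ genericPoint X := Scheme.le_iff_specializes.2 hgen
    have heq : genericPoint X = x :=
      (hgen.antisymm (Scheme.le_iff_specializes.1 (hmax hle))).eq
    have h2 : (Set.univ : Set X) ⊆ {x} := by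
      rw [← (genericPoint_spec X).def, heq]
      exact hxc.closure_eq.le
    haveI : Subsingleton X := ⟨fun a b => (h2 (Set.mem_univ a)).trans (h2 (Set.mem_univ b)).symm⟩
    have h3 : topologicalKrullDim X ≤ 0 := topologicalKrullDim_zero_of_discreteTopology X
    rw [hdim] at h3
    exact absurd h3 (by norm_num)
  exact ⟨g, hgne, hg'⟩

omit [IsIntegral X] [IsProper (X ↘ Spec (CommRingCat.of k))] in
/-- The image of a rational point is a closed point. -/
theorem range_section [IsSeparated (X ↘ Spec (CommRingCat.of k))] (s : Spec (CommRingCat.of k) ⟶ X)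
    (hs : s ≫ (X ↘ Spec (CommRingCat.of k)) = 𝟙 _) :
    Set.range s = {s default} ∧ IsClosed ({s default} : Set X) ∧ IsClosedImmersion s := by
  haveI : IsClosedImmersion (s ≫ (X ↘ Spec (CommRingCat.of k))) := by rw [hs]; infer_instance
  haveI : IsClosedImmersion s := IsClosedImmersion.of_comp s (X ↘ Spec (CommRingCat.of k))
  haveI : Subsingleton ↥(Spec (CommRingCat.of k)) := inferInstanceAs (Subsingleton (PrimeSpectrum k))
  have hrange : Set.range s = {s default} := Set.eq_singleton_iff_unique_mem.2 ⟨⟨_, rfl⟩, by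
    rintro _ ⟨a, rfl⟩
    rw [Subsingleton.elim a default]⟩
  have hxc : IsClosed ({s default} : Set X) := hrange ▸ s.isClosedEmbedding.isClosed_range
  exact ⟨hrange, hxc, inferInstance⟩

/-- A genus zero curve with a rational point whose local ring is integrally closed is `P¹`. -/
theorem exists_iso_P1_of_section (hdim : topologicalKrullDim X = 1) (hg : Curv2.genus k X = 0)
    (s : Spec (CommRingCat.of k) ⟶ X) (hs : s ≫ (X ↘ Spec (CommRingCat.of k)) = 𝟙 _)
    (hn : IsIntegrallyClosed (X.presheaf.stalk (s default))) :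
    ∃ e : X ≅ CohB1.ProjSpace 1 k, e.hom ≫ CohB1.ProjSpace.toSpec 1 k = X ↘ (Spec (CommRingCat.of k)) := by
  haveI := EulerIneqLib.isNoetherian_proper (X := X) k
  obtain ⟨hrange, hxc, -⟩ := range_section s hs
  obtain ⟨L, hL, hdeg, -⟩ := exists_deg_one hdim s hs (s default) hrange.le hxc (principal_of_normal hdim _ hxc hn)
  exact exists_iso_P1_of_genus_zero hdim hg hL hdeg

/-- Over a separably closed field a geometrically reduced curve has a regular rational point. -/
theorem exists_regular_section [IsSepClosed k] [GeometricallyReduced (X ↘ Spec (CommRingCat.of k))]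
    (hdim : topologicalKrullDim X = 1) :
    ∃ s : Spec (CommRingCat.of k) ⟶ X, s ≫ (X ↘ Spec (CommRingCat.of k)) = 𝟙 _ ∧
      IsIntegrallyClosed (X.presheaf.stalk (s default)) := by
  haveI := EulerIneqLib.isNoetherian_proper (X := X) k
  let p := X ↘ Spec (CommRingCat.of k)
  haveI : IsIntegral (Spec (CommRingCat.of k)) := inferInstance
  haveI : IsDominant p := ⟨fun z => subset_closure ⟨Nonempty.some inferInstance, Subsingleton.elim (α := PrimeSpectrum k) _ _⟩⟩
  haveI : LocallyOfFinitePresentation p := inferInstance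
  have hdense := S7775.result X (Spec (CommRingCat.of k)) p inferInstance
  obtain ⟨x, hx⟩ := hdense.nonempty
  let V : Scheme.{u} := (p.smoothLocus : X.Opens)
  haveI : Smooth (p.smoothLocus.ι ≫ p) := by
    rw [← Scheme.Hom.smoothLocus_eq_top_iff, ← Scheme.Hom.preimage_smoothLocus_eq]
    exact Scheme.Opens.ι_preimage_self _
  obtain ⟨L, _, _, σ, hfin, hsep, hσ, -⟩ := SmoothSliceLib.exists_spec_point_field k
    (p.smoothLocus.ι ≫ p) ⊤ ⟨x, hx⟩ trivial
  haveI := hfin
  haveI := hsep
  let e : k ≃+* L := RingEquiv.ofBijective (algebraMap k L)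
    ⟨RingHom.injective _, IsSepClosed.algebraMap_surjective k L⟩
  let τ := Spec.map e.symm.toCommRingCatIso.hom ≫ σ
  refine ⟨τ ≫ p.smoothLocus.ι, ?_, ?_⟩
  · simp only [τ, Category.assoc]
    rw [show σ ≫ p.smoothLocus.ι ≫ (X ↘ Spec (CommRingCat.of k)) = _ from hσ, ← Spec.map_comp, ← Spec.map_id]
    congr 1
    ext a
    exact e.symm_apply_apply a
  · letI : V.Over (Spec (CommRingCat.of k)) := ⟨p.smoothLocus.ι ≫ p⟩
    haveI : Smooth (V ↘ Spec (CommRingCat.of k)) := inferInstanceAs (Smooth (p.smoothLocus.ι ≫ p))
    haveI := S1535.result k V (τ default)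
    rw [Scheme.Hom.comp_apply]
    haveI : IsRegularLocalRing (X.presheaf.stalk (p.smoothLocus.ι (τ default))) :=
      IsRegularLocalRing.of_ringEquiv (asIso (p.smoothLocus.ι.stalkMap (τ default))).commRingCatIsoToRingEquiv.symm
    haveI := VBLib.isPrincipalIdealRing_of_regular (X.presheaf.stalk (p.smoothLocus.ι (τ default))) (by
      rw [ringKrullDim_stalk_eq_coheight]
      have h := hdim.le
      rw [ASp.topologicalKrullDim_eq_krullDim] at h
      exact (Order.coheight_le_krullDim _).trans h)
    haveI : IsDomain (X.presheaf.stalk (p.smoothLocus.ι (τ default))) := RegLocal.isDomain _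
    infer_instance

/-- Geometrically integral genus zero curves over separably closed fields are `P¹`. -/
theorem exists_iso_P1_of_sepClosed [IsSepClosed k] [GeometricallyReduced (X ↘ Spec (CommRingCat.of k))]
    (hdim : topologicalKrullDim X = 1) (hg : Curv2.genus k X = 0) :
    ∃ e : X ≅ CohB1.ProjSpace 1 k, e.hom ≫ CohB1.ProjSpace.toSpec 1 k = X ↘ (Spec (CommRingCat.of k)) := by
  obtain ⟨s, hs, hn⟩ := exists_regular_section (k := k) (X := X) hdim
  exact exists_iso_P1_of_section hdim hg s hs hn

omit [IsIntegral X] in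
/-- Genus zero geometrically integral curves are smooth. -/
theorem smooth_of_genus_zero [GeometricallyIntegral (X ↘ Spec (CommRingCat.of k))]
    (hdim : topologicalKrullDim X = 1) (hg : Curv2.genus k X = 0) : Smooth (X ↘ Spec (CommRingCat.of k)) := by
  let K := AlgebraicClosure k
  haveI : GeometricallyIntegral (Curv2.bc k X K ↘ Spec (CommRingCat.of K)) :=
    inferInstanceAs (GeometricallyIntegral (pullback.snd (X ↘ Spec (CommRingCat.of k))
      (Spec.map (CommRingCat.ofHom (algebraMap k K)))))
  haveI : IsIntegral (Curv2.bc k X K) :=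
    inferInstanceAs (IsIntegral (pullback (X ↘ Spec (CommRingCat.of k))
      (Spec.map (CommRingCat.ofHom (algebraMap k K)))))
  obtain ⟨e, he⟩ := exists_iso_P1_of_sepClosed (k := K) (X := Curv2.bc k X K)
    ((dim_bc k K).trans hdim) ((finrank_HH_bc_structure k K 1).trans hg)
  haveI := ProjSmoothLib.smooth_toSpec 1 K
  have hsm : Smooth (pullback.snd (X ↘ Spec (CommRingCat.of k)) (Spec.map (CommRingCat.ofHom (algebraMap k K)))) := by
    show Smooth (Curv2.bc k X K ↘ Spec (CommRingCat.of K))
    rw [← he]
    infer_instance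
  refine MorphismProperty.of_pullback_snd_of_descendsAlong (P := @Smooth)
    (Q := @Surjective ⊓ @Flat ⊓ @QuasiCompact) ⟨⟨?_, ?_⟩, ?_⟩ hsm
  · exact ⟨fun _ => ⟨⟨⊥, Ideal.isPrime_bot⟩, Subsingleton.elim (α := PrimeSpectrum k) _ _⟩⟩
  · rw [Flat.SpecMap_iff]
    exact RingHom.flat_algebraMap_iff.2 inferInstance
  · infer_instance

/-- Degrees of invertible modules form a subgroup. -/
def degrees (hdim : topologicalKrullDim X ≤ 1) : AddSubgroup ℤ where
  carrier := {n | ∃ L : X.Modules, PicF.IsInvertible L ∧ Curv2.deg k X L 1 = n}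
  zero_mem' := ⟨_, ParaFLib.isInvertible_structureModule, CurveLib.deg_structureModule⟩
  add_mem' := by
    rintro a b ⟨L, hL, rfl⟩ ⟨M, hM, rfl⟩
    exact ⟨_, AmpleLib.isInvertible_tensor hL hM, CurveLib.deg_tensor_add (k := k) hdim hL hM⟩
  neg_mem' := by
    rintro a ⟨L, hL, rfl⟩
    obtain ⟨M, hM, ⟨e⟩⟩ := AmpleEmb.exists_isInverseOf hL
    refine ⟨M, hM, ?_⟩
    have h := CurveLib.deg_tensor_add (k := k) hdim hL hM
    rw [CurveLib.deg_iso (k := k) e, CurveLib.deg_structureModule] at h
    omega

/-- The residue degree of a closed point with integrally closed local ring is a degree. -/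
theorem residue_mem_degrees (hdim : topologicalKrullDim X = 1) (x : X) (hxc : IsClosed ({x} : Set X))
    (hn : IsIntegrallyClosed (X.presheaf.stalk x)) :
    letI : Algebra k (X.residueField x) := (Curv2.resMap k X x).toAlgebra
    (Module.finrank k (X.residueField x) : ℤ) ∈ degrees (k := k) (X := X) hdim.le := by
  haveI := EulerIneqLib.isNoetherian_proper (X := X) k
  letI : Algebra k (X.residueField x) := (Curv2.resMap k X x).toAlgebra
  haveI : IsClosedImmersion (X.fromSpecResidueField x) := IsClosedImmersion.of_isPreimmersion _ (by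
    rw [X.range_fromSpecResidueField]
    exact hxc)
  obtain ⟨L, hL, hdeg, -⟩ := exists_deg_point (k := k) (F := X.residueField x) hdim (X.fromSpecResidueField x)
    (GeomIrred.spec_resMap k X x).symm x (X.range_fromSpecResidueField x).le hxc (principal_of_normal hdim x hxc hn)
  exact ⟨L, hL, hdeg⟩

end Groth.Agent.CurveP1Lib
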