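import Groth.Agent.CurveLib.Sections
import Groth.Agent.CurveLib.SmulPow
import Groth.Agent.ProjBundleLib.FTQuot
import Groth.Agent.ProjUPLib.Free
import Groth.Agent.ProjUPLib.Coord
import Groth.Agent.PicProjLib.Affine
import Groth.Agent.S7640
import Groth.Agent.S7639
import Groth.Agent.S1527
import Groth.Agent.S10829
import Groth.Agent.ProjSmoothLib.Basic
import Groth.Agent.REqLib.P1Irred
import Groth.Agent.NormalRefLib.Basic
import Groth.Agent.CompleteCurve.ProjSpace
import Groth.Agent.CurveLib.GlobalFun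
import Groth.Agent.BirQFLib.Basic

/-!
A curve with an invertible module of degree one and two independent sections is the projective line.
-/

set_option autoImplicit false
set_option backward.isDefEq.respectTransparency false
set_option linter.style.haveILetI false
universe u
open CategoryTheory CategoryTheory.Limits AlgebraicGeometry TopologicalSpace Opposite
open Groth.Agent.PullbackMod Groth.Agent.DCohLib Groth.Agent.ParaFLib Groth.Agent.AmpleLib

noncomputable section

namespace Groth.Agent.CurveP1Lib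

variable {k : Type u} [Field k] {X : Scheme.{u}} [X.Over (Spec (CommRingCat.of k))]
  [IsProper (X ↘ Spec (CommRingCat.of k))] [IsIntegral X]

/-- An invertible module whose degree is one forces `H⁰(O) = k`. -/
theorem bijective_toGlobal {L : X.Modules} (hL : PicF.IsInvertible L) (hdeg : Curv2.deg k X L 1 = 1) :
    Function.Bijective (Coh.toGlobal (X ↘ Spec (CommRingCat.of k))) := by
  letI : Algebra k Γ(X, ⊤) := ((X ↘ (Spec (CommRingCat.of k))).appTop.hom.comp
    (Scheme.ΓSpecIso (CommRingCat.of k)).inv.hom).toAlgebra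
  obtain ⟨-, hfin, hdvd, -⟩ := S7639.result k X
  haveI := hfin
  have h := hdvd 1 L (CurveLib.isFinLocFreeOfRank_one hL)
  rw [hdeg, Int.natCast_dvd, Int.natAbs_one, Nat.dvd_one] at h
  haveI : Nontrivial Γ(X, ⊤) := Module.nontrivial_of_finrank_eq_succ h
  refine ⟨show Function.Injective (algebraMap k Γ(X, ⊤)) from RingHom.injective _, fun a => ?_⟩
  obtain ⟨c, hc⟩ := (finrank_eq_one_iff_of_nonzero' (1 : Γ(X, ⊤)) one_ne_zero).1 h a
  refine ⟨c, ?_⟩
  rw [← hc, Algebra.smul_def, mul_one]
  rfl

/-- A degree one invertible module with two independent sections is generated by two sections. -/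
theorem exists_two_generators (hdim : topologicalKrullDim X = 1) {L : X.Modules} (hL : PicF.IsInvertible L)
    (hdeg : Curv2.deg k X L 1 = 1) (h2 : 2 ≤ Module.finrank k (Coh.HH X L 0)) :
    ∃ s : Fin 2 → ProjUP.Γm L, ProjUP.GeneratedBy L s := by
  haveI := EulerIneqLib.isNoetherian_proper (X := X) k
  have hb := bijective_toGlobal hL hdeg
  haveI := EulerIneqLib.finite_HH (k := k) (CurveLib.isCoh_of_isInvertible hL) 0
  haveI : Nontrivial (Coh.HH X L 0) := Module.nontrivial_of_finrank_pos (R := k) (by omega)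
  obtain ⟨s, hs⟩ := CurveLib.exists_hom_ne_zero L
  obtain ⟨he, hC, hd, hQ, hm⟩ :=
    CurveLib.deg_eq_add_coker (k := k) hdim.le ParaFLib.isInvertible_structureModule hL hs
  haveI := hm
  haveI := EulerIneqLib.finite_HH (k := k) hQ 0
  have hQ1 : Module.finrank k (Coh.HH X (cokernel s) 0) = 1 := by
    rw [CurveLib.deg_structureModule, hdeg] at he
    omega
  let π := cokernel.π s
  -- some section does not die in the cokernel
  obtain ⟨t, ht⟩ : ∃ t : Γ(L, ⊤), π.app ⊤ t ≠ 0 := by
    by_contra hne
    push Not at hne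
    have hspan : ∀ t : Γ(L, ⊤), ∃ c : k, t = (show Γ(X, ⊤) from Coh.toGlobal (X ↘ Spec (CommRingCat.of k)) c) • sec s := by
      intro t
      have hz : secHom L t ≫ π = 0 := by
        refine hom_unit_ext ?_
        show π.app ⊤ (sec (secHom L t)) = _
        rw [sec_secHom, hne t]
        rfl
      let a := Abelian.monoLift s (secHom L t) hz
      have ha : a ≫ s = secHom L t := Abelian.monoLift_comp s _ hz
      obtain ⟨c, hc⟩ := hb.2 (sec a)
      refine ⟨c, ?_⟩
      have h1 : t = s.app ⊤ (sec a) := by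
        rw [← sec_secHom (L := L) t, ← ha]
        rfl
      rw [h1]
      refine Eq.trans (congrArg (s.app ⊤) ?_)
        (Scheme.Modules.Hom.app_smul s (show Γ(X, ⊤) from Coh.toGlobal (X ↘ Spec (CommRingCat.of k)) c)
          (show Γ(Coh.structureModule X, ⊤) from (1 : Γ(X, ⊤))))
      exact hc.symm.trans (mul_one (show Γ(X, ⊤) from Coh.toGlobal (X ↘ Spec (CommRingCat.of k)) c)).symm
    have hle : Module.finrank k (Coh.HH X L 0) ≤ 1 := by
      refine finrank_le_one ((CurveLib.secOf L).symm (sec s)) fun v => ?_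
      obtain ⟨c, hc⟩ := hspan (CurveLib.secOf L v)
      exact ⟨c, (CurveLib.secOf L).injective (by
        rw [CurveLib.secOf_smul, AddEquiv.apply_symm_apply]; exact hc.symm)⟩
    omega
  -- it generates the cokernel
  have hQgen : ∀ w : Γ(cokernel s, ⊤), ∃ c : k,
      (show Γ(X, ⊤) from Coh.toGlobal (X ↘ Spec (CommRingCat.of k)) c) • π.app ⊤ t = w := by
    intro w
    have hv : (CurveLib.secOf (cokernel s)).symm (π.app ⊤ t) ≠ 0 := fun h => ht (by
      simpa using congrArg (CurveLib.secOf (cokernel s)) h)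
    obtain ⟨c, hc⟩ := (finrank_eq_one_iff_of_nonzero' _ hv).1 hQ1 ((CurveLib.secOf (cokernel s)).symm w)
    refine ⟨c, ?_⟩
    have h := congrArg (CurveLib.secOf (cokernel s)) hc
    rwa [CurveLib.secOf_smul, AddEquiv.apply_symm_apply, AddEquiv.apply_symm_apply] at h
  refine ⟨![sec s, t], fun x => eq_top_iff.2 fun v _ => ?_⟩
  set S := Submodule.span (X.presheaf.stalk x)
    (Set.range fun i => (L.presheaf.germ ⊤ x trivial).hom ((![sec s, t] : Fin 2 → Γ(L, ⊤)) i)) with hS
  have hsS : L.presheaf.germ ⊤ x trivial (sec s) ∈ S := Submodule.subset_span ⟨0, rfl⟩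
  have htS : L.presheaf.germ ⊤ x trivial t ∈ S := Submodule.subset_span ⟨1, rfl⟩
  have hgg : Submodule.span (X.presheaf.stalk x)
      (Set.range fun w : Γ(cokernel s, ⊤) => (cokernel s).presheaf.germ ⊤ x (Opens.mem_top x) w) = ⊤ :=
    ProjBundleLib.span_germ_of_isGloballyGenerated (S1527.result k X (cokernel s) hQ hd) x
  have hmem : stalkLin π x v ∈ Submodule.map (stalkLin π x) S := by
    have hle : Submodule.span (X.presheaf.stalk x)
        (Set.range fun w : Γ(cokernel s, ⊤) => (cokernel s).presheaf.germ ⊤ x (Opens.mem_top x) w) ≤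
        Submodule.map (stalkLin π x) S := by
      refine Submodule.span_le.2 ?_
      rintro _ ⟨w, rfl⟩
      obtain ⟨c, rfl⟩ := hQgen w
      show (cokernel s).presheaf.germ ⊤ x (Opens.mem_top x) _ ∈ _
      rw [germ_smul']
      refine Submodule.smul_mem _ _ ⟨_, htS, ?_⟩
      exact stalkLin_germ π x (Opens.mem_top x) t
    exact hle (hgg.ge Submodule.mem_top)
  obtain ⟨w, hw, hwv⟩ := hmem
  obtain ⟨r, hr⟩ := (DevLib.coker_exact s x (v - w)).1 (by rw [map_sub]; exact sub_eq_zero.2 hwv.symm)
  obtain ⟨a, rfl⟩ := (ParaFLib.bijective_oneG x).2 r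
  have hsec : stalkLin s x (ParaFLib.oneG x) = L.presheaf.germ ⊤ x trivial (sec s) :=
    stalkLin_germ s x (Opens.mem_top x) _
  have : v - w ∈ S := by
    rw [← hr, map_smul, hsec]
    exact Submodule.smul_mem _ _ hsS
  exact sub_add_cancel v w ▸ add_mem this hw

/-- A curve with an invertible module of degree one with two independent sections is `P¹`, with its twist. -/
theorem exists_iso_P1_twist (hdim : topologicalKrullDim X = 1) {L : X.Modules} (hL : PicF.IsInvertible L)
    (hdeg : Curv2.deg k X L 1 = 1) (h2 : 2 ≤ Module.finrank k (Coh.HH X L 0)) :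
    ∃ e : X ≅ CohB1.ProjSpace 1 k, e.hom ≫ CohB1.ProjSpace.toSpec 1 k = X ↘ (Spec (CommRingCat.of k)) ∧
      Nonempty ((Scheme.Modules.pullback e.hom).obj (Twist.twistProjSpace 1 k 1) ≅ L) := by
  obtain ⟨s, hs⟩ := exists_two_generators hdim hL hdeg h2
  obtain ⟨r, hr, τ, -⟩ := ProjUPLib.exists_hom_projSpace (X ↘ (Spec (CommRingCat.of k))) hL s hs
  haveI hint : IsIntegral (CohB1.ProjSpace 1 k) := REqLib.isIntegral_projSpace 1 k
  letI : (CohB1.ProjSpace 1 k).Over (Spec (CommRingCat.of k)) := ⟨CohB1.ProjSpace.toSpec 1 k⟩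
  haveI hpr : IsProper (CohB1.ProjSpace 1 k ↘ Spec (CommRingCat.of k)) :=
    inferInstanceAs (IsProper (CohB1.ProjSpace.toSpec 1 k))
  haveI : Smooth (CohB1.ProjSpace 1 k ↘ Spec (CommRingCat.of k)) := ProjSmoothLib.smooth_toSpec 1 k
  haveI : IsLocallyNoetherian (CohB1.ProjSpace 1 k) :=
    LocallyOfFiniteType.isLocallyNoetherian (CohB1.ProjSpace 1 k ↘ Spec (CommRingCat.of k))
  have hY : Pi1.IsNormalScheme (CohB1.ProjSpace 1 k) :=
    NormalRefLib.normal_of_regular (CurveLib.isRegularLocalRing_stalk_of_smooth (k := k))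
  have hdimY : topologicalKrullDim (CohB1.ProjSpace 1 k) = 1 := by rw [S10829.result k 1, Nat.cast_one]
  haveI : IsProper (r ≫ CohB1.ProjSpace.toSpec 1 k) := hr ▸ ‹_›
  haveI : IsProper r := IsProper.of_comp r (CohB1.ProjSpace.toSpec 1 k)
  have hdimstalk : ∀ y : CohB1.ProjSpace 1 k, ringKrullDim ((CohB1.ProjSpace 1 k).presheaf.stalk y) ≤ 1 := fun y => by
    rw [ringKrullDim_stalk_eq_coheight]
    refine le_trans (Order.coheight_le_krullDim _) ?_
    rw [← DimLiftLib.topologicalKrullDim_eq, hdimY]
  have hgen : r (genericPoint X) = genericPoint (CohB1.ProjSpace 1 k) := by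
    by_contra hne
    set y := r (genericPoint X)
    have hall : ∀ x : X, r x = y := fun x => by
      have h1 : y ⤳ r x := (genericPoint_specializes x).map r.continuous
      by_contra hx
      have hlt : r x < y := lt_of_le_not_ge h1 fun h => hx (Specializes.antisymm h h1).eq
      have hlt2 : y < genericPoint (CohB1.ProjSpace 1 k) := lt_of_le_not_ge (genericPoint_specializes y)
        fun h => hne (Specializes.antisymm h (genericPoint_specializes y)).eq
      have h2 : (2 : WithBot ℕ∞) ≤ ringKrullDim ((CohB1.ProjSpace 1 k).presheaf.stalk (r x)) := by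
        rw [ringKrullDim_stalk_eq_coheight]
        have h := le_trans (add_le_add_left (le_trans (le_add_left le_rfl) (Order.coheight_add_one_le hlt2)) 1)
          (Order.coheight_add_one_le hlt)
        rw [one_add_one_eq_two] at h
        exact WithBot.coe_le_coe.2 h
      exact absurd (h2.trans (hdimstalk (r x))) (by decide)
    obtain ⟨j, hj⟩ := Opens.mem_iSup.1 ((ProjCoh.cover_of_adjoin (CohB1.polyGrading 1 k)
      (fun i : Fin 2 => (⟨MvPolynomial.X i, MvPolynomial.isHomogeneous_X k i⟩ : CohB1.polyGrading 1 k 1))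
      MvPolynomial.adjoin_range_X).ge (Opens.mem_top y))
    have hadj : Algebra.adjoin k (Set.range fun i : ULift.{u} (Fin 2) => (MvPolynomial.X i.down : MvPolynomial _ k)) = ⊤ := by
      rw [show (Set.range fun i : ULift.{u} (Fin 2) => (MvPolynomial.X i.down : MvPolynomial _ k)) =
        Set.range (MvPolynomial.X (R := k)) from
          Set.ext fun x => ⟨fun ⟨i, h⟩ => ⟨i.down, h⟩, fun ⟨i, h⟩ => ⟨⟨i⟩, h⟩⟩]
      exact MvPolynomial.adjoin_range_X
    have hg := ProjUPLib.gen_pForm (ι := fun i : ULift.{u} (Fin 2) => (MvPolynomial.X i.down : MvPolynomial _ k))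
      (fun i => MvPolynomial.isHomogeneous_X k i.down) r hadj
      (⟨MvPolynomial.X j, MvPolynomial.isHomogeneous_X k j⟩ : CohB1.polyGrading 1 k 1)
      (U := ⊤) (fun x _ => show r x ∈ _ from (hall x).symm ▸ hj)
    obtain ⟨e⟩ := PicProjLib.triv_of_gen_top hg
    have h := CurveLib.deg_iso (k := k) (τ.symm ≪≫ e) 1
    rw [hdeg, CurveLib.deg_structureModule] at h
    exact one_ne_zero h
  have hres : r.residueDegree (genericPoint X) = 1 := by
    have hO1 : PicF.IsInvertible (Twist.twistProjSpace 1 k 1) :=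
      ProjUPLib.isInvertible_twist_one (ι := fun i : ULift.{u} (Fin 2) => (MvPolynomial.X i.down : MvPolynomial _ k))
        (fun i => MvPolynomial.isHomogeneous_X k i.down) (by
          rw [show (Set.range fun i : ULift.{u} (Fin 2) => (MvPolynomial.X i.down : MvPolynomial _ k)) =
            Set.range (MvPolynomial.X (R := k)) from
              Set.ext fun x => ⟨fun ⟨i, h⟩ => ⟨i.down, h⟩, fun ⟨i, h⟩ => ⟨⟨i⟩, h⟩⟩]
          exact MvPolynomial.adjoin_range_X)
    have h := S7640.result k X (CohB1.ProjSpace 1 k) hdim hdimY r hr hgen 1 _ (CurveLib.isFinLocFreeOfRank_one hO1)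
    rw [CurveLib.deg_iso (k := k) τ 1, hdeg] at h
    have h' := Int.eq_one_of_mul_eq_one_right (Int.natCast_nonneg _) h.symm
    exact_mod_cast h'
  have hbir : IsIso (r.stalkMap (genericPoint X)) := by
    have hF : IsField ((CohB1.ProjSpace 1 k).presheaf.stalk (r (genericPoint X))) := by
      rw [hgen]; exact Field.toIsField (CohB1.ProjSpace 1 k).functionField
    have hF' : IsField (X.presheaf.stalk (genericPoint X)) := Field.toIsField X.functionField
    letI := (r.residueFieldMap (genericPoint X)).hom.toAlgebra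
    have hsurj : Function.Surjective (r.residueFieldMap (genericPoint X)).hom := fun b => by
      obtain ⟨c, hc⟩ := (finrank_eq_one_iff_of_nonzero' (1 : X.residueField (genericPoint X)) one_ne_zero).1 hres b
      exact ⟨c, by rwa [Algebra.smul_def, mul_one] at hc⟩
    rw [ConcreteCategory.isIso_iff_bijective]
    refine ⟨?_, fun v => ?_⟩
    · letI := hF.toField
      exact RingHom.injective (r.stalkMap (genericPoint X)).hom
    · obtain ⟨c, hc⟩ := hsurj (X.residue _ v)
      obtain ⟨u, rfl⟩ := (CohB1.ProjSpace 1 k).residue_surjective _ c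
      refine ⟨u, ?_⟩
      letI := hF'.toField
      refine RingHom.injective (X.residue (genericPoint X)).hom ?_
      exact Eq.trans (ConcreteCategory.congr_hom (Scheme.residue_residueFieldMap r (genericPoint X)) u).symm hc
  obtain ⟨V, hV, hmax⟩ := BirQFLib.exists_isIso_sSup r
  have hVtop : V = ⊤ := top_le_iff.1 fun y _ => by
    obtain ⟨W, hy, hW⟩ := BirQFLib.exists_nhd_isIso_of_dim_le_one hY r hgen hbir y (hdimstalk y)
    exact hmax W hW hy
  subst hVtop
  haveI := hV
  haveI : IsIso (⊤ : (CohB1.ProjSpace 1 k).Opens).ι := (CohB1.ProjSpace 1 k).topIso.isIso_hom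
  haveI : IsIso (r ⁻¹ᵁ (⊤ : (CohB1.ProjSpace 1 k).Opens)).ι := X.topIso.isIso_hom
  haveI : IsIso r := by
    have h : r = inv (r ⁻¹ᵁ (⊤ : (CohB1.ProjSpace 1 k).Opens)).ι ≫ (r ∣_ ⊤) ≫
        (⊤ : (CohB1.ProjSpace 1 k).Opens).ι := by rw [morphismRestrict_ι, IsIso.inv_hom_id_assoc]
    rw [h]; infer_instance
  exact ⟨asIso r, hr, ⟨τ⟩⟩

/-- A curve with an invertible module of degree one with two independent sections is `P¹`. -/
theorem exists_iso_P1 (hdim : topologicalKrullDim X = 1) {L : X.Modules} (hL : PicF.IsInvertible L)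
    (hdeg : Curv2.deg k X L 1 = 1) (h2 : 2 ≤ Module.finrank k (Coh.HH X L 0)) :
    ∃ e : X ≅ CohB1.ProjSpace 1 k, e.hom ≫ CohB1.ProjSpace.toSpec 1 k = X ↘ (Spec (CommRingCat.of k)) := by
  obtain ⟨e, he, -⟩ := exists_iso_P1_twist hdim hL hdeg h2
  exact ⟨e, he⟩

/-- A curve with `H¹(O) = 0` and an invertible module of degree one is `P¹`. -/
theorem exists_iso_P1_of_genus_zero (hdim : topologicalKrullDim X = 1)
    (hg : Curv2.genus k X = 0) {L : X.Modules} (hL : PicF.IsInvertible L) (hdeg : Curv2.deg k X L 1 = 1) :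
    ∃ e : X ≅ CohB1.ProjSpace 1 k, e.hom ≫ CohB1.ProjSpace.toSpec 1 k = X ↘ (Spec (CommRingCat.of k)) := by
  have hb := bijective_toGlobal hL hdeg
  have h0 : Module.finrank k (Coh.HH X (Coh.structureModule X) 0) = 1 := by
    refine finrank_eq_one ((CurveLib.secOf (Coh.structureModule X)).symm (1 : Γ(X, ⊤))) ?_ fun w => ?_
    · exact fun h => one_ne_zero (α := Γ(X, ⊤))
        (((CurveLib.secOf (Coh.structureModule X)).apply_symm_apply _).symm.trans
          ((congrArg (CurveLib.secOf (Coh.structureModule X)) h).trans (map_zero _)))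
    · obtain ⟨c, hc⟩ := hb.2 (CurveLib.secOf (Coh.structureModule X) w)
      exact ⟨c, (CurveLib.secOf (Coh.structureModule X)).injective (by
        rw [CurveLib.secOf_smul, AddEquiv.apply_symm_apply]
        show _ • (1 : Γ(X, ⊤)) = _
        rw [smul_eq_mul, mul_one]
        exact hc)⟩
  have h := (CurveLib.genus_zero_sections (k := k) hdim.le h0 hg hL (d := 1) (by exact_mod_cast hdeg)).1
  exact exists_iso_P1 hdim hL hdeg h.ge

end Groth.Agent.CurveP1Lib
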