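import Groth.Agent.TraceEt.Basic
import Mathlib.RingTheory.Discriminant

/-!
Discriminants under compatible maps of algebras with matching bases.
-/

set_option autoImplicit false
universe u

namespace Groth.Agent.CurveP1Lib

variable {A A' B B' ι : Type u} [CommRing A] [CommRing A'] [CommRing B] [CommRing B'] [Algebra A B] [Algebra A' B']
  [Fintype ι]

theorem repr_map (φ : A →+* A') (ψ : B →+* B') (hc : ∀ a, ψ (algebraMap A B a) = algebraMap A' B' (φ a))
    (b : Module.Basis ι A B) (b' : Module.Basis ι A' B') (hb : ∀ i, ψ (b i) = b' i) (y : B) (i : ι) :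
    b'.repr (ψ y) i = φ (b.repr y i) := by
  classical
  conv_lhs => rw [← b.sum_repr y]
  simp only [map_sum, Algebra.smul_def, map_mul, hc, hb]
  simp only [← Algebra.smul_def]
  simp [Finsupp.single_apply]

theorem trace_map [DecidableEq ι] (φ : A →+* A') (ψ : B →+* B') (hc : ∀ a, ψ (algebraMap A B a) = algebraMap A' B' (φ a))
    (b : Module.Basis ι A B) (b' : Module.Basis ι A' B') (hb : ∀ i, ψ (b i) = b' i) (y : B) :
    Algebra.trace A' B' (ψ y) = φ (Algebra.trace A B y) := by
  rw [Algebra.trace_eq_matrix_trace b', Algebra.trace_eq_matrix_trace b, Matrix.trace, Matrix.trace, map_sum]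
  refine Finset.sum_congr rfl fun i _ => ?_
  rw [Matrix.diag_apply, Matrix.diag_apply, Algebra.leftMulMatrix_eq_repr_mul, Algebra.leftMulMatrix_eq_repr_mul,
    ← hb, ← map_mul, repr_map φ ψ hc b b' hb]

theorem discr_map [DecidableEq ι] (φ : A →+* A') (ψ : B →+* B') (hc : ∀ a, ψ (algebraMap A B a) = algebraMap A' B' (φ a))
    (b : Module.Basis ι A B) (b' : Module.Basis ι A' B') (hb : ∀ i, ψ (b i) = b' i) :
    Algebra.discr A' b' = φ (Algebra.discr A b) := by
  rw [Algebra.discr_def, Algebra.discr_def, RingHom.map_det]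
  congr 1
  ext i j
  simp only [Algebra.traceMatrix_apply, RingHom.mapMatrix_apply, Matrix.map_apply, Algebra.traceForm_apply]
  rw [← hb, ← hb, ← map_mul, trace_map φ ψ hc b b' hb]

theorem isUnit_discr_of_etale [DecidableEq ι] [Module.Finite A B] [Module.Free A B] [Algebra.Etale A B]
    (b : Module.Basis ι A B) : IsUnit (Algebra.discr A b) := by
  have h := (Groth.Agent.TraceEt.bijective_traceForm_iff A B b).1
    ((Groth.Agent.TraceEt.etale_iff_bijective A B).1 inferInstance)
  have e : Algebra.traceMatrix A b = Matrix.of fun i j => Algebra.traceForm A B (b j) (b i) := by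
    ext i j
    simp [Algebra.traceMatrix_apply, Algebra.traceForm_apply, mul_comm]
  rwa [Algebra.discr_def, e]

end Groth.Agent.CurveP1Lib
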